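import Cfsg.Agent.H436.Names
import Cfsg.Agent.OddRank.SzTits
import Cfsg.Agent.S1156

/-!
# S4876: the rows `Sz(q)`, `²G₂(q)` (`p = 5, 7`) and the case list of the sporadic groups (helper795)

* `sz_ree_false` : the Sylow `p`-subgroups of `Sz(q)` (`p` odd) and of `²G₂(q)` (`p > 3`) are cyclic, so the row
  is empty;
* `spor_cases` : the pairs (sporadic group or Tits group, `p`) with `p = 3, 27 ∣ |S|` or `p = 5, 7`, `p² ∣ |S|`.
-/

set_option autoImplicit false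

namespace Cfsg.Agent.H795.K6

open Cfsg Cfsg.Agent.H436 Cfsg.Agent.OrdDiv

universe u

variable {p : ℕ} {S : Type u} [Group S]

/-- no noncyclic Sylow `p`-subgroups in `Sz(q)` for odd `p`, in `²G₂(q)` for `p > 3` -/
theorem sz_ree_false [Finite S] [hp : Fact p.Prime] {q : ℕ} (hpr : p = 3 ∨ p = 5 ∨ p = 7)
    (nc : ∀ Q : Sylow p S, ¬ IsCyclic (Q : Subgroup S)) (g : Grp) (hg : g = .sz q ∨ (g = .ree q ∧ p ≠ 3))
    (h : IsNamed g S) : False := by
  rcases hg with rfl | ⟨rfl, h3⟩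
  · obtain ⟨F, iF, iF', m, hm, hF, hq, hf⟩ := h.real
    have hS : Lie.IsoSuzuki S := ⟨F, iF, iF', m, hm, hF.trans hq, hf⟩
    exact nc default (OddRank.SzTits.isCyclic_of_isPGroup hS (by omega) _ (default : Sylow p S).isPGroup')
  · obtain ⟨F, iF, iF', m, hm, hF, hq, ⟨f⟩⟩ := h.real
    have : Finite ↥(Cfsg.Lie.twistedG2 F (3 ^ m)) := Finite.of_equiv _ f.toEquiv
    have P : Sylow p S := default
    obtain ⟨T, hT⟩ := (P.isPGroup'.map (f : S →* ↥(Cfsg.Lie.twistedG2 F (3 ^ m)))).exists_le_sylow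
    have := Cfsg.Agent.S1156.result hm (hF.trans hq) (by omega) T
    have h1 : IsCyclic ↥((P : Subgroup S).map (f : S →* ↥(Cfsg.Lie.twistedG2 F (3 ^ m)))) :=
      isCyclic_of_injective (Subgroup.inclusion hT) (Subgroup.inclusion_injective hT)
    exact nc P (isCyclic_of_surjective (f.subgroupMap (P : Subgroup S)).symm
      (f.subgroupMap (P : Subgroup S)).symm.surjective)

/-- the pairs (sporadic group or Tits group, `p`) for `p = 3, 27 ∣ |S|` and `p = 5, 7`, `p² ∣ |S|` -/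
theorem spor_cases (hpr : p = 3 ∨ p = 5 ∨ p = 7) (two : p ^ 2 ∣ Nat.card S) (three : p = 3 → 27 ∣ Nat.card S)
    (g : Grp) (h : IsNamed g S)
    (hg : g ∈ [Grp.tits, .m11, .m12, .m22, .m23, .m24, .j1, .j2, .j3, .j4, .co1, .co2, .co3, .mcl, .hs, .suz, .he, .ru,
      .on, .ly, .fi22, .fi23, .fi24, .hn, .th, .b, .m]) :
    (p = 3 ∧ g ∈ [Grp.tits, .m12, .m24, .j2, .j3, .j4, .co1, .co2, .co3, .mcl, .suz, .he, .ru, .on, .ly, .fi22, .fi23,
      .fi24, .hn, .th, .b, .m]) ∨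
    (p = 5 ∧ g ∈ [Grp.tits, .j2, .co1, .co2, .co3, .mcl, .hs, .suz, .he, .ru, .ly, .fi22, .fi23, .fi24, .hn, .th, .b, .m]) ∨
    (p = 7 ∧ g ∈ [Grp.he, .on, .fi24, .co1, .th, .b, .m]) := by
  have ho := h.ord
  rw [ho] at two three
  have key3 : ∀ g ∈ [Grp.tits, .m11, .m12, .m22, .m23, .m24, .j1, .j2, .j3, .j4, .co1, .co2, .co3, .mcl, .hs, .suz,
      .he, .ru, .on, .ly, .fi22, .fi23, .fi24, .hn, .th, .b, .m], 27 ∣ ordN g →
      g ∈ [Grp.tits, .m12, .m24, .j2, .j3, .j4, .co1, .co2, .co3, .mcl, .suz, .he, .ru, .on, .ly, .fi22, .fi23,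
        .fi24, .hn, .th, .b, .m] := by decide +kernel
  have key5 : ∀ g ∈ [Grp.tits, .m11, .m12, .m22, .m23, .m24, .j1, .j2, .j3, .j4, .co1, .co2, .co3, .mcl, .hs, .suz,
      .he, .ru, .on, .ly, .fi22, .fi23, .fi24, .hn, .th, .b, .m], 5 ^ 2 ∣ ordN g →
      g ∈ [Grp.tits, .j2, .co1, .co2, .co3, .mcl, .hs, .suz, .he, .ru, .ly, .fi22, .fi23, .fi24, .hn, .th, .b, .m] := by
    decide +kernel
  have key7 : ∀ g ∈ [Grp.tits, .m11, .m12, .m22, .m23, .m24, .j1, .j2, .j3, .j4, .co1, .co2, .co3, .mcl, .hs, .suz,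
      .he, .ru, .on, .ly, .fi22, .fi23, .fi24, .hn, .th, .b, .m], 7 ^ 2 ∣ ordN g →
      g ∈ [Grp.he, .on, .fi24, .co1, .th, .b, .m] := by decide +kernel
  rcases hpr with rfl | rfl | rfl
  · exact .inl ⟨rfl, key3 g hg (three rfl)⟩
  · exact .inr (.inl ⟨rfl, key5 g hg two⟩)
  · exact .inr (.inr ⟨rfl, key7 g hg two⟩)

end Cfsg.Agent.H795.K6
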